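import Groth.Agent.Lib.AlgSpDeform15.Chart

/-!
# Properties of flat deformations of morphisms of spaces
-/

universe u

set_option backward.isDefEq.respectTransparency.types false

open CategoryTheory CategoryTheory.Limits AlgebraicGeometry Opposite MorphismProperty

namespace Groth.Agent.AlgSpDeform15

open AlgSp Groth.Agent.AlgSpace Groth.Agent.AlgSpDecent Groth.Agent.AlgSpDescent

variable {S : Scheme.{u}} {X X' Y Y' B B' : Sp S} {iX : X ⟶ X'} {iY : Y ⟶ Y'} {iB : B ⟶ B'}
  {f : X ⟶ Y} {f' : X' ⟶ Y'} {g : Y ⟶ B} {g' : Y' ⟶ B'}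
  (hcX : IsPullback iX (f ≫ g) (f' ≫ g') iB) (hcY : IsPullback iY g g' iB) (w : iX ≫ f' = f ≫ iY)
  (hX' : IsAlgSpace X') (hY' : IsAlgSpace Y') (hB' : IsAlgSpace B')

namespace DChart

variable (c : DChart iX iY iB f f' g')

theorem fibreDimAt_eq [LocallyOfFiniteType c.k.left] (z : c.W₀.left) :
    FlatMor.fibreDimAt c.f₀.left z = FlatMor.fibreDimAt c.k.left (c.iW.left z) :=
  have : LocallyOfFiniteType c.f₀.left := MorphismProperty.of_isPullback c.sqXY ‹_›
  FibDim14.fibreDimAt_baseChange c.sqXY z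

theorem forall_fibreDim_iff (c : DChart iX iY iB f f' g') (hl : LocP @LocallyOfFiniteType f) (hl' : LocP @LocallyOfFiniteType f')
    (R : WithBot ℕ∞ → Prop) :
    (∀ x, HasAtMor (fun _ _ h u => R (FlatMor.fibreDimAt h u)) f x) ↔
      ∀ x', HasAtMor (fun _ _ h u => R (FlatMor.fibreDimAt h u)) f' x' := by
  have : LocallyOfFiniteType c.k.left := hl' c.a c.p c.k c.ha c.hp c.wa
  have hiW : Surjective c.iW.left := (MorphismProperty.of_isPullback c.sqXY.flip c.thickU).2
  constructor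
  · intro h x'
    obtain ⟨v, rfl⟩ := surjective_ofPt c.has x'
    obtain ⟨z, rfl⟩ := c.iW.left.surjective v
    rw [AlgSpRel14.hasAtMor_fibreDimAt_iff hl' c.ha c.hp c.wa, ← c.fibreDimAt_eq]
    exact (AlgSpRel14.hasAtMor_fibreDimAt_iff hl c.hcW c.hcU c.wf z).1 (h _)
  · intro h x
    obtain ⟨z, rfl⟩ := surjective_ofPt c.hcWs x
    rw [AlgSpRel14.hasAtMor_fibreDimAt_iff hl c.hcW c.hcU c.wf, c.fibreDimAt_eq]
    exact (AlgSpRel14.hasAtMor_fibreDimAt_iff hl' c.ha c.hp c.wa _).1 (h _)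

end DChart

include hcX hcY w hX' hY' hB'

theorem flat_of_fin (hB : IsFinThickMor iB) (hflat : LocP @Flat (f' ≫ g')) (hf : LocP @Flat f) :
    LocP @Flat f' := by
  have hthick : IsThickMor iB := by obtain ⟨n, h, -⟩ := hB; exact h
  obtain ⟨c⟩ := exists_dchart hcX hcY w hthick hX' hY' hB'
  have := c.closedImm
  have := c.flat_comp hflat
  exact c.locP_of (Deform4.flat_of_nilpotent c.sqX c.sqY c.wWU (c.nilpotent hB) (c.prop_f₀ hf))

theorem lfp_of_fin (hB : IsFinThickMor iB) (hflat : LocP @Flat (f' ≫ g'))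
    (hf : LocP @LocallyOfFinitePresentation f) : LocP @LocallyOfFinitePresentation f' := by
  have hthick : IsThickMor iB := by obtain ⟨n, h, -⟩ := hB; exact h
  obtain ⟨c⟩ := exists_dchart hcX hcY w hthick hX' hY' hB'
  have := c.closedImm
  have := c.flat_comp hflat
  exact c.locP_of (Deform4.lfp_of_nilpotent c.sqX c.sqY c.wWU (c.nilpotent hB) (c.prop_f₀ hf))

theorem flat_of_deform (hB : DeformHyp iB f' g') (hflat : LocP @Flat (f' ≫ g')) (hf : LocP @Flat f) :
    LocP @Flat f' := by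
  rcases hB with hB | ⟨hB, hg', hfp⟩
  · exact flat_of_fin hcX hcY w hX' hY' hB' hB hflat hf
  · obtain ⟨c⟩ := exists_dchart hcX hcY w hB hX' hY' hB'
    have := c.closedImm
    have := c.surj
    have := c.flat_comp hflat
    have := c.lfp_comp hfp
    have := c.lft_g hg'
    exact c.locP_of (Deform4.flat_of_thickening c.sqX c.sqY c.wWU (c.prop_f₀ hf))

theorem lfp_of_deform (hB : DeformHyp iB f' g') (hflat : LocP @Flat (f' ≫ g'))
    (hf : LocP @LocallyOfFinitePresentation f) : LocP @LocallyOfFinitePresentation f' := by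
  rcases hB with hB | ⟨-, hg', hfp⟩
  · exact lfp_of_fin hcX hcY w hX' hY' hB' hB hflat hf
  · exact locP_of_comp (P := @LocallyOfFinitePresentation) (Q' := @LocallyOfFinitePresentation)
      (R := @LocallyOfFiniteType) (fun _ _ _ k l (hkl : LocallyOfFinitePresentation (k ≫ l))
        (hl : LocallyOfFiniteType l) => Deform4.lfp_of_lfp_lft (f' := k) (g' := l)) hX' hY' hB' hfp hg'

theorem smooth_of_deform (hB : DeformHyp iB f' g') (hflat : LocP @Flat (f' ≫ g')) (hf : LocP @Smooth f) :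
    LocP @Smooth f' := by
  obtain ⟨c⟩ := exists_dchart hcX hcY w hB.thick hX' hY' hB'
  have h₁ := flat_of_deform hcX hcY w hX' hY' hB' hB hflat
    (locP_mono (fun _ _ v (_ : Smooth v) => (inferInstance : Flat v)) hf)
  have h₂ := lfp_of_deform hcX hcY w hX' hY' hB' hB hflat
    (locP_mono (fun _ _ v (_ : Smooth v) => (inferInstance : LocallyOfFinitePresentation v)) hf)
  have : IsClosedImmersion c.iU.left := c.thickU.1
  have : Surjective c.iU.left := c.thickU.2
  exact c.locP_of (Deform4.smooth_of c.sqXY (h₁ c.a c.p c.k c.ha c.hp c.wa)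
    (h₂ c.a c.p c.k c.ha c.hp c.wa) (c.prop_f₀ hf))

theorem etale_of_deform (hB : DeformHyp iB f' g') (hflat : LocP @Flat (f' ≫ g')) (hf : LocP @Etale f) :
    LocP @Etale f' := by
  obtain ⟨c⟩ := exists_dchart hcX hcY w hB.thick hX' hY' hB'
  have h₁ := flat_of_deform hcX hcY w hX' hY' hB' hB hflat
    (locP_mono (fun _ _ v (_ : Etale v) => (inferInstance : Flat v)) hf)
  have h₂ := lfp_of_deform hcX hcY w hX' hY' hB' hB hflat
    (locP_mono (fun _ _ v (_ : Etale v) => (inferInstance : LocallyOfFinitePresentation v)) hf)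
  have : IsClosedImmersion c.iU.left := c.thickU.1
  have : Surjective c.iU.left := c.thickU.2
  exact c.locP_of (Deform4.etale_of c.sqXY (h₁ c.a c.p c.k c.ha c.hp c.wa)
    (h₂ c.a c.p c.k c.ha c.hp c.wa) (c.prop_f₀ hf))

/-- The local properties of a flat deformation are those of its base change. -/
theorem deform_local_iff (hB : DeformHyp iB f' g') (hflat : LocP @Flat (f' ≫ g'))
    (hY : IsAlgSpace Y) (hX : IsAlgSpace X) (d : ℕ) :
    ((LocP @LocallyOfFiniteType f ∧
        ∀ x, HasAtMor (fun _ _ h u => FlatMor.fibreDimAt h u = (d : WithBot ℕ∞)) f x) ↔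
      (LocP @LocallyOfFiniteType f' ∧
        ∀ x', HasAtMor (fun _ _ h u => FlatMor.fibreDimAt h u = (d : WithBot ℕ∞)) f' x')) ∧
    (LocP @Flat f ↔ LocP @Flat f') ∧
    (LocP @LocallyOfFiniteType f ↔ LocP @LocallyOfFiniteType f') ∧
    (LocP (@LocallyQuasiFinite ⊓ @LocallyOfFiniteType) f ↔
      LocP (@LocallyQuasiFinite ⊓ @LocallyOfFiniteType) f') ∧
    (LocP @LocallyOfFinitePresentation f ↔ LocP @LocallyOfFinitePresentation f') ∧
    (LocP @Smooth f ↔ LocP @Smooth f') ∧
    (LocP (@LocallyOfFiniteType ⊓ @FormallyUnramified) f ↔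
      LocP (@LocallyOfFiniteType ⊓ @FormallyUnramified) f') ∧
    (IsEtaleMor f ↔ IsEtaleMor f') := by
  have hcart := AlgSpDescent.isPullback_deform hcX hcY w
  obtain ⟨hiX, hiY⟩ := deform_thick hcX hcY w hB hX' hY' hB'
  have down : ∀ {P : MorphismProperty Scheme.{u}} [EtaleLocal P], LocP P f' → LocP P f :=
    fun {P} _ h => locP_of_isPullback hX' hY' hY hcart h
  have lft := lft_deform hcX hcY w hB hX' hY' hB'
  obtain ⟨c⟩ := exists_dchart hcX hcY w hB.thick hX' hY' hB'
  refine ⟨?_, ⟨flat_of_deform hcX hcY w hX' hY' hB' hB hflat, down⟩, ⟨lft, down⟩,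
    ⟨fun h => lqf_of_thick (closedImmersion_of_thick hiY) hiX hcart
      (lft (locP_mono (fun _ _ v hv => hv.2) h)) h, down⟩,
    ⟨lfp_of_deform hcX hcY w hX' hY' hB' hB hflat, down⟩,
    ⟨smooth_of_deform hcX hcY w hX' hY' hB' hB hflat, down⟩,
    ⟨fun h => unramified_of_thick (closedImmersion_of_thick hiY) hiX hcart
      (lft (locP_mono (fun _ _ v hv => hv.1) h)) h, down⟩,
    ⟨fun h => isEtaleMor_of_locP_etale hX' hY'
      (etale_of_deform hcX hcY w hX' hY' hB' hB hflat (locP_etale_of_isEtaleMor h)),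
     fun h => isEtaleMor_of_locP_etale hX hY (down (locP_etale_of_isEtaleMor h))⟩⟩
  constructor
  · rintro ⟨h₁, h₂⟩
    exact ⟨lft h₁, (c.forall_fibreDim_iff h₁ (lft h₁) (· = (d : WithBot ℕ∞))).1 h₂⟩
  · rintro ⟨h₁, h₂⟩
    exact ⟨down h₁, (c.forall_fibreDim_iff (down h₁) h₁ (· = (d : WithBot ℕ∞))).2 h₂⟩

end Groth.Agent.AlgSpDeform15
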