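import Groth.Agent.Lib.AlgSpDescent.Deform
import Groth.Agent.Lib.Deform4Main
import Groth.Agent.Lib.AlgSpRel14.Chart
import Groth.Agent.Lib.WEtaleH7.Misc
import Groth.Prelude.Def_AlgSpMor5

/-!
# Scheme charts of deformations of morphisms of spaces
-/

universe u

set_option backward.isDefEq.respectTransparency.types false

open CategoryTheory CategoryTheory.Limits AlgebraicGeometry Opposite

namespace Groth.Agent.AlgSpDeform15

open AlgSp Groth.Agent.AlgSpace Groth.Agent.AlgSpDecent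

variable {S : Scheme.{u}}

/-- The chart of a base change along a thickened base. -/
theorem exists_scheme_square {Y Y' B B' : Sp S} {iY : Y ⟶ Y'} {iB : B ⟶ B'} {g : Y ⟶ B} {g' : Y' ⟶ B'}
    (hcY : IsPullback iY g g' iB) (hiY : Representable iY) {U V V₀ : Over S}
    {p : (yon S).obj U ⟶ Y'} {q : (yon S).obj V ⟶ B'} {h : U ⟶ V} (w : p ≫ g' = (yon S).map h ≫ q)
    {cV : (yon S).obj V₀ ⟶ B} {iV : V₀ ⟶ V} (sqV : IsPullback cV ((yon S).map iV) iB q) :
    ∃ (U₀ : Over S) (cU : (yon S).obj U₀ ⟶ Y) (iU : U₀ ⟶ U) (g₀ : U₀ ⟶ V₀),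
      IsPullback cU ((yon S).map iU) iY p ∧ IsPullback iU.left g₀.left h.left iV.left ∧
      iU ≫ h = g₀ ≫ iV ∧ cU ≫ g = (yon S).map g₀ ≫ cV := by
  have sqU := hiY.isPullback p
  let cU := hiY.fst p
  let iU := hiY.snd p
  have hw : (cU ≫ g) ≫ iB = (yon S).map (iU ≫ h) ≫ q := by
    rw [Category.assoc, ← hcY.w, reassoc_of% sqU.w, w, Functor.map_comp_assoc]
  obtain ⟨g₀, hg₀⟩ := (yon S).map_surjective (sqV.lift _ _ hw)
  have h₁ : cU ≫ g = (yon S).map g₀ ≫ cV := by rw [hg₀, sqV.lift_fst]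
  have h₂ : iU ≫ h = g₀ ≫ iV := (yon S).map_injective (by
    refine (sqV.lift_snd _ _ hw).symm.trans ?_
    rw [← hg₀]
    exact ((yon S).map_comp _ _).symm)
  have big := sqU.flip.paste_vert hcY
  rw [h₁, w] at big
  have sq' : IsPullback ((yon S).map iU) ((yon S).map g₀) ((yon S).map h) ((yon S).map iV) :=
    IsPullback.of_bot big (by rw [← Functor.map_comp, ← Functor.map_comp, h₂]) sqV.flip
  exact ⟨_, cU, iU, g₀, sqU, (IsPullback.of_map (yon S) h₂ sq').map (Over.forget S), h₂, h₁⟩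

/-- Finite order thickenings have nilpotent kernel on charts. -/
theorem isNilpotent_ker_of_chart {B B' : Sp S} {iB : B ⟶ B'} (hiB : IsFinThickMor iB) {V V₀ : Over S}
    {q : (yon S).obj V ⟶ B'} (hq : RepWith @Etale q) {cV : (yon S).obj V₀ ⟶ B} {iV : V₀ ⟶ V}
    (sqV : IsPullback cV ((yon S).map iV) iB q) [QuasiCompact iV.left] : IsNilpotent iV.left.ker := by
  obtain ⟨n, -, hn⟩ := hiB
  refine ⟨n + 1, Scheme.IdealSheafData.ext (funext fun U => ?_)⟩
  let O : Over S := Over.mk (U.1.ι ≫ V.hom)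
  let O₀ : Over S := Over.mk ((iV.left ⁻¹ᵁ U.1).ι ≫ V₀.hom)
  let κ : O ⟶ V := Over.homMk U.1.ι rfl
  let κ₀ : O₀ ⟶ V₀ := Over.homMk (iV.left ⁻¹ᵁ U.1).ι rfl
  let r : O₀ ⟶ O := Over.homMk (iV.left ∣_ U.1) (by
    change _ ≫ U.1.ι ≫ V.hom = _ ≫ V₀.hom
    rw [morphismRestrict_ι_assoc, Over.w iV])
  have sqO : IsPullback κ₀ r iV κ := IsPullback.of_map (Over.forget S)
    (Over.OverMorphism.ext (morphismRestrict_ι iV.left U.1).symm)
    (isPullback_morphismRestrict iV.left U.1).flip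
  have hκ : Etale κ.left := inferInstanceAs (Etale U.1.ι)
  have hO : IsAffine O.left := U.2
  have h : powZero n r.left := hn ((yon S).map κ ≫ q) ((yon S).map κ₀ ≫ cV) r hO
    (repWith_comp ((repWith_yon_map_iff @Etale κ).2 hκ) hq) ((sqO.map (yon S)).paste_horiz sqV)
  have h' := congrArg (fun I => I.ideal ⟨⊤, isAffineOpen_top _⟩) h
  simp only [ThickUnr4.ideal_pow] at h'
  rw [ThickUnr4.ideal_pow, Scheme.Hom.ker_apply]
  have : QuasiCompact r.left := by
    change QuasiCompact (iV.left ∣_ U.1)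
    infer_instance
  rw [Scheme.Hom.ker_apply, show r.left = iV.left ∣_ U.1 from rfl, morphismRestrict_app',
    Scheme.IdealSheafData.ideal_bot] at h'
  change _ = (⊥ : Ideal _)
  have e : U.1.ι ''ᵁ ⊤ = U.1 := U.1.ι_image_top
  revert h'
  rw [Scheme.Hom.appLE]
  generalize image_morphismRestrict_preimage iV.left U.1 ⊤ = e₂
  intro h'
  have key : ∀ (W : V.left.Opens) (hW : W = U.1) (T : V₀.left.Opens) (hT : iV.left ⁻¹ᵁ W = T),
      RingHom.ker (iV.left.app W ≫ V₀.left.presheaf.map (eqToHom hT.symm).op).hom ^ (n + 1) = ⊥ →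
      RingHom.ker (iV.left.app U.1).hom ^ (n + 1) = ⊥ := by
    rintro W rfl T rfl h''
    simpa using h''
  exact key _ e _ e₂.symm h'

variable {X X' Y Y' B B' : Sp S} {iX : X ⟶ X'} {iY : Y ⟶ Y'} {iB : B ⟶ B'} {f : X ⟶ Y}
  {f' : X' ⟶ Y'} {g : Y ⟶ B} {g' : Y' ⟶ B'}

/-- A deformation on a chart. -/
structure DChart (iX : X ⟶ X') (iY : Y ⟶ Y') (iB : B ⟶ B') (f : X ⟶ Y) (f' : X' ⟶ Y')
    (g' : Y' ⟶ B') where
  V : Over S
  U : Over S
  W : Over S
  V₀ : Over S
  U₀ : Over S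
  W₀ : Over S
  q : (yon S).obj V ⟶ B'
  p : (yon S).obj U ⟶ Y'
  a : (yon S).obj W ⟶ X'
  cV : (yon S).obj V₀ ⟶ B
  cU : (yon S).obj U₀ ⟶ Y
  cW : (yon S).obj W₀ ⟶ X
  iV : V₀ ⟶ V
  iU : U₀ ⟶ U
  iW : W₀ ⟶ W
  h : U ⟶ V
  k : W ⟶ U
  g₀ : U₀ ⟶ V₀
  f₀ : W₀ ⟶ U₀
  hq : RepWith @Etale q
  hp : RepWith @Etale p
  ha : RepWith @Etale a
  has : RepWith @Surjective a
  hcU : RepWith @Etale cU
  hcW : RepWith @Etale cW
  hcWs : RepWith @Surjective cW
  wp : p ≫ g' = (yon S).map h ≫ q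
  wa : a ≫ f' = (yon S).map k ≫ p
  wf : cW ≫ f = (yon S).map f₀ ≫ cU
  wW : cW ≫ iX = (yon S).map iW ≫ a
  sqV : IsPullback cV ((yon S).map iV) iB q
  thickV : thick iV.left
  sqY : IsPullback iU.left g₀.left h.left iV.left
  sqX : IsPullback iW.left (f₀.left ≫ g₀.left) (k.left ≫ h.left) iV.left
  wWU : iW.left ≫ k.left = f₀.left ≫ iU.left

theorem exists_dchart (hcX : IsPullback iX (f ≫ g) (f' ≫ g') iB) (hcY : IsPullback iY g g' iB)
    (w : iX ≫ f' = f ≫ iY) (hB : IsThickMor iB) (hX' : IsAlgSpace X') (hY' : IsAlgSpace Y')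
    (hB' : IsAlgSpace B') : Nonempty (DChart iX iY iB f f' g') := by
  obtain ⟨V, q, hq, hqs⟩ := hB'.atlas
  obtain ⟨U, p, h, hp, hps, wp⟩ := exists_chart_over hY' hB' g' q hq hqs
  obtain ⟨W, a, k, ha, has, wa⟩ := exists_chart_over hX' hY' f' p hp hps
  have sqV := hB.1.isPullback q
  obtain ⟨U₀, cU, iU, g₀, sqU, sqY, eU, wU⟩ := exists_scheme_square hcY
    (repWith_of_isPullback hcY.flip hB).1 wp sqV
  obtain ⟨W₀, cW, iW, g₁, sqW, sqX, eW, wW⟩ := exists_scheme_square hcX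
    (repWith_of_isPullback hcX.flip hB).1 (h := k ≫ h)
    (by rw [reassoc_of% wa, wp, Functor.map_comp_assoc]) sqV
  obtain ⟨f₀, hf₀⟩ := (yon S).map_surjective (sqU.lift (cW ≫ f) ((yon S).map (iW ≫ k)) (by
    rw [Category.assoc, ← w, reassoc_of% sqW.w, wa, Functor.map_comp_assoc]))
  have e₁ : cW ≫ f = (yon S).map f₀ ≫ cU := by rw [hf₀, sqU.lift_fst]
  have e₂ : iW ≫ k = f₀ ≫ iU := (yon S).map_injective (by
    refine Eq.trans ?_ ((yon S).map_comp _ _).symm
    rw [hf₀, sqU.lift_snd])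
  have e₃ : g₁ = f₀ ≫ g₀ := by
    apply (yon S).map_injective
    apply sqV.hom_ext
    · rw [← wW, reassoc_of% e₁, wU, Functor.map_comp_assoc]
    · rw [← Functor.map_comp, ← Functor.map_comp, Category.assoc, ← eU, ← reassoc_of% e₂, eW]
  exact ⟨{
    V := V, U := U, W := W, V₀ := _, U₀ := U₀, W₀ := W₀, q := q, p := p, a := a, cV := _, cU := cU,
    cW := cW, iV := _, iU := iU, iW := iW, h := h, k := k, g₀ := g₀, f₀ := f₀, hq := hq, hp := hp,
    ha := ha, has := has, hcU := repWith_of_isPullback sqU.flip hp,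
    hcW := repWith_of_isPullback sqW.flip ha, hcWs := repWith_of_isPullback sqW.flip has,
    wp := wp, wa := wa, wf := e₁, wW := sqW.w, sqV := sqV, thickV := hB.2 _ _ _ sqV, sqY := sqY,
    sqX := by subst e₃; exact sqX,
    wWU := congrArg (fun m : W₀ ⟶ U => m.left) e₂ }⟩

namespace DChart

variable (c : DChart iX iY iB f f' g')

theorem closedImm : IsClosedImmersion c.iV.left := c.thickV.1
theorem surj : Surjective c.iV.left := c.thickV.2

theorem sqXY : IsPullback c.iW.left c.f₀.left c.k.left c.iU.left :=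
  IsPullback.of_bot c.sqX c.wWU c.sqY

theorem thickU : thick c.iU.left := MorphismProperty.of_isPullback c.sqY.flip c.thickV

theorem nilpotent (hB : IsFinThickMor iB) : IsNilpotent c.iV.left.ker :=
  have := c.closedImm
  isNilpotent_ker_of_chart hB c.hq c.sqV

theorem flat_comp (hflat : LocP @Flat (f' ≫ g')) : Flat (c.k.left ≫ c.h.left) :=
  hflat c.a c.q (c.k ≫ c.h) c.ha c.hq (by rw [reassoc_of% c.wa, c.wp, Functor.map_comp_assoc])

theorem lfp_comp (h : LocP @LocallyOfFinitePresentation (f' ≫ g')) :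
    LocallyOfFinitePresentation (c.k.left ≫ c.h.left) :=
  h c.a c.q (c.k ≫ c.h) c.ha c.hq (by rw [reassoc_of% c.wa, c.wp, Functor.map_comp_assoc])

theorem lft_g (h : LocP @LocallyOfFiniteType g') : LocallyOfFiniteType c.h.left :=
  h c.p c.q c.h c.hp c.hq c.wp

theorem prop_f₀ {P : MorphismProperty Scheme.{u}} (h : LocP P f) : P c.f₀.left :=
  h c.cW c.cU c.f₀ c.hcW c.hcU c.wf

theorem locP_of {P : MorphismProperty Scheme.{u}} [EtaleLocal P] (h : P c.k.left) : LocP P f' :=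
  locP_of_one_chart c.a c.p c.k c.ha c.has c.hp c.wa h

end DChart

/-- Flatness of the base at points in the image of a flat morphism flat over it. -/
theorem isFlatAtMor_of_flat {X' Y' B' : Space S} {f' : X'.obj ⟶ Y'.obj} {g' : Y'.obj ⟶ B'.obj}
    (hflat : LocP @Flat (f' ≫ g')) (hf : LocP @Flat f') (x' : Points X'.obj) :
    IsFlatAtMor g' (Points.map f' x') := by
  intro U V a b h u ha hb w hu
  have sq := IsPullback.of_hasPullback f' a
  have hP := isAlgSpace_pullback Y'.property X'.property (IsAlgSpace.yon_obj U) sq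
  obtain ⟨W, r, hr, hrs⟩ := hP.atlas
  obtain ⟨k, hk⟩ := (yon S).map_surjective (r ≫ pullback.snd f' a)
  let c := r ≫ pullback.fst f' a
  have hc : RepWith @Etale c := repWith_comp hr (repWith_of_isPullback sq.flip ha)
  have wc : c ≫ f' = (yon S).map k ≫ a := by
    rw [hk, Category.assoc, Category.assoc, sq.w]
  obtain ⟨z, -, hz⟩ := exists_point_lift sq x' (Points.ofScheme U u)
    (by rw [← Points.ofPt_eq_map_ofScheme, hu])
  obtain ⟨v, rfl⟩ := surjective_ofPt hrs z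
  rw [Points.map_ofPt, ← hk] at hz
  have hv : k.left v = u := by
    have := congrArg (Points.toScheme U) hz
    rwa [Points.toScheme_ofPt, Points.toScheme_ofScheme] at this
  subst hv
  have h₁ : Flat (k ≫ h).left :=
    hflat c b (k ≫ h) hc hb (by rw [reassoc_of% wc, w, Functor.map_comp_assoc])
  have h₂ : Flat k.left := hf c a k hc ha wc
  have h₁' : Flat (k.left ≫ h.left) := h₁
  have h₃ : ((k.left ≫ h.left).stalkMap v).hom.Flat := Flat.stalkMap (k.left ≫ h.left) v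
  rw [Scheme.Hom.stalkMap_comp] at h₃
  refine WEtaleH7.flat_of_comp_faithfullyFlat _ _ ?_ h₃
  letI := (k.left.stalkMap v).hom.toAlgebra
  have : Module.Flat _ _ := Flat.stalkMap k.left v
  exact @Module.FaithfullyFlat.of_flat_of_isLocalHom _ _ _ _ _ _ _ this
    (inferInstanceAs (IsLocalHom (k.left.stalkMap v).hom))

end Groth.Agent.AlgSpDeform15
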